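import Groth.Agent.S8851
import Groth.Agent.L22.BlowUp
import Groth.Agent.L21.Curve.BirationalOpen
import Mathlib.AlgebraicGeometry.FunctionField

/-!
Blowing up an integral scheme in a nonzero ideal gives an integral scheme, birational over the base.
-/

set_option autoImplicit false
set_option linter.style.haveILetI false
set_option backward.isDefEq.respectTransparency false

universe u

open CategoryTheory CategoryTheory.Limits AlgebraicGeometry TopologicalSpace

noncomputable section

namespace Groth.L16.Blow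

variable {X' X : Scheme.{u}} {b : X' ⟶ X} {I : X.IdealSheafData}

theorem isEmpty_of_support_top (hb : BlowUp.IsBlowUp b I) (h : ∀ y : X, y ∈ I.support) : IsEmpty ↥X' := by
  refine ⟨fun x => ?_⟩
  obtain ⟨_, ⟨V, hV, rfl⟩, hx, -⟩ := X'.isBasis_affineOpens.exists_subset_of_mem_open (Set.mem_univ x) isOpen_univ
  have h1 := Groth.L22.Ideals.eq_zero_of_eq_zero_off_exceptional hb (V := ⟨V, hV⟩) 1 fun y _ hy => absurd (h _) hy
  have := congrArg (X'.presheaf.germ V x hx) h1
  rw [map_one, map_zero] at this
  exact one_ne_zero this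

variable [IsIntegral X]

theorem isIntegral_and_birational (hb : BlowUp.IsBlowUp b I) (hI : I ≠ ⊥) :
    ∃ (_ : IsIntegral X') (e : b (genericPoint X') = genericPoint X),
      IsIso (b.stalkMap (genericPoint X')) := by
  let O : X.Opens := I.support.compl
  have hO : genericPoint X ∈ O := by
    intro hη
    refine hI (Scheme.IdealSheafData.support_eq_top_iff.1 (eq_top_iff.2 fun y _ => ?_))
    exact (genericPoint_specializes y).mem_closed I.support.isClosed hη
  haveI := Groth.L22.Ideals.isIso_restrict_compl hb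
  haveI : IsReduced X' := Groth.Agent.S8851.result I b hb
  obtain ⟨x₀, hx₀⟩ := (b ∣_ O).surjective ⟨genericPoint X, hO⟩
  haveI : Nonempty O := ⟨⟨_, hO⟩⟩
  haveI : IrreducibleSpace ↥(b ⁻¹ᵁ O).toScheme := by
    haveI : IrreducibleSpace ↥O.toScheme := Subtype.irreducibleSpace
      ⟨⟨_, hO⟩, (IrreducibleSpace.isIrreducible_univ X).isPreirreducible.open_subset O.2 (Set.subset_univ _)⟩
    refine (irreducibleSpace_def _).2 ?_
    rw [Set.top_eq_univ, ← (asIso (b ∣_ O)).inv.homeomorph.surjective.range_eq, ← Set.image_univ]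
    exact (IrreducibleSpace.isIrreducible_univ _).image _ (asIso (b ∣_ O)).inv.continuous.continuousOn
  have hdense : Dense ((b ⁻¹ᵁ O : X'.Opens) : Set X') := dense_iff_inter_open.2 fun W hW ⟨w, hw⟩ => by
    by_contra hne
    obtain ⟨_, ⟨V, hV, rfl⟩, hwV, hVW⟩ := X'.isBasis_affineOpens.exists_subset_of_mem_open hw hW
    have h1 := Groth.L22.Ideals.eq_zero_of_eq_zero_off_exceptional hb (V := ⟨V, hV⟩) 1
      fun y hy hy' => absurd ⟨y, hVW hy, show y ∈ b ⁻¹ᵁ O from hy'⟩ hne
    have := congrArg (X'.presheaf.germ V w hwV) h1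
    rw [map_one, map_zero] at this
    exact one_ne_zero this
  haveI : IrreducibleSpace ↥X' := by
    refine (irreducibleSpace_def _).2 ?_
    rw [Set.top_eq_univ, ← hdense.closure_eq, ← (b ⁻¹ᵁ O).range_ι, ← Set.image_univ]
    exact ((IrreducibleSpace.isIrreducible_univ _).image _ (b ⁻¹ᵁ O).ι.continuous.continuousOn).closure
  haveI : IsIntegral X' := isIntegral_of_irreducibleSpace_of_isReduced _
  have hmem : genericPoint X' ∈ b ⁻¹ᵁ O :=
    (genericPoint_specializes x₀.1).mem_open (b ⁻¹ᵁ O).2 x₀.2
  have he : b (genericPoint X') = genericPoint X := by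
    have h1 : b x₀.1 = genericPoint X := by rw [← morphismRestrict_base_coe, hx₀]
    exact (Specializes.antisymm (h1 ▸ (genericPoint_specializes x₀.1).map b.continuous) (genericPoint_specializes _)).eq
  exact ⟨inferInstance, he, Groth.L22.Ideals.isIso_stalkMap hb _ hmem⟩

end Groth.L16.Blow
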